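import Mathlib

open TensorProduct

namespace Groth.Agent.AbsFlat

universe u v w

/-- The kernel of a flat surjective ring map is a pure ideal. -/
lemma pure_ker_of_flat_surjective {R : Type u} {S : Type v} [CommRing R] [CommRing S] (f : R →+* S)
    (hf : f.Flat) (hs : Function.Surjective f) : (RingHom.ker f).Pure := by
  algebraize [f]
  exact Module.Flat.of_linearEquiv
    (Ideal.quotientKerAlgEquivOfSurjective (f := Algebra.ofId R S) hs).toLinearEquiv

/-- Pure in the elementwise sense implies pure. -/
lemma pure_of_forall_exists_eq_mul {R : Type u} [CommRing R] (I : Ideal R)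
    (h : ∀ x ∈ I, ∃ y ∈ I, x = x * y) : I.Pure := by
  refine Ideal.Pure.of_inf_eq_mul I fun J _ => le_antisymm ?_ Ideal.mul_le_inf
  rintro x ⟨hxI, hxJ⟩
  obtain ⟨y, hy, hxy⟩ := h x hxI
  have := Ideal.mul_mem_mul hy hxJ
  rwa [mul_comm y x, ← hxy] at this

lemma exists_forall_eq_mul_of_pure {R : Type u} [CommRing R] (I : Ideal R) [I.Pure] {ι : Type w}
    (s : Finset ι) (k : ι → R) (hk : ∀ i ∈ s, k i ∈ I) : ∃ y ∈ I, ∀ i ∈ s, y * k i = k i := by
  classical
  induction s using Finset.induction_on with
  | empty => exact ⟨0, I.zero_mem, by simp⟩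
  | @insert a s ha ih =>
    obtain ⟨y, hy, hys⟩ := ih fun i hi => hk i (Finset.mem_insert_of_mem hi)
    obtain ⟨z, hz, hza⟩ := Ideal.exists_eq_mul_of_pure (hk a (Finset.mem_insert_self a s))
    refine ⟨y + z - y * z, I.sub_mem (I.add_mem hy hz) (I.mul_mem_right _ hy), fun i hi => ?_⟩
    rcases Finset.mem_insert.mp hi with rfl | hi
    · linear_combination (y - 1) * hza
    · linear_combination (1 - z) * hys i hi

/-- If `g ∘ f` is flat and `f` is surjective then `g` is flat. -/
lemma flat_of_comp_surjective {R : Type u} {S : Type v} {T : Type w} [CommRing R] [CommRing S]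
    [CommRing T] (f : R →+* S) (g : S →+* T) (hf : Function.Surjective f)
    (hg : Function.Surjective g) (h : (g.comp f).Flat) : g.Flat := by
  have hp := pure_ker_of_flat_surjective _ h (hg.comp hf)
  have : (RingHom.ker g).Pure := pure_of_forall_exists_eq_mul _ fun x hx => by
    obtain ⟨a, rfl⟩ := hf x
    obtain ⟨b, hb, hab⟩ := Ideal.exists_eq_mul_of_pure (I := RingHom.ker (g.comp f)) (x := a) hx
    exact ⟨f b, hb, by rw [← map_mul, ← hab]⟩
  algebraize [g]
  have h2 : Module.Flat S (S ⧸ RingHom.ker (Algebra.ofId S T)) := this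
  exact Module.Flat.of_linearEquiv
    (Ideal.quotientKerAlgEquivOfSurjective (f := Algebra.ofId S T) hg).toLinearEquiv.symm

variable (A B : Type*) [CommRing A] [CommRing B] [Algebra A B]

/-- The action of `B ⊗[A] B` on `P ⊗[A] N`. -/
noncomputable def act (P N : Type*) [AddCommGroup P] [Module A P] [Module B P] [IsScalarTower A B P]
    [AddCommGroup N] [Module A N] [Module B N] [IsScalarTower A B N] :
    B ⊗[A] B →ₗ[A] (P ⊗[A] N →ₗ[A] P ⊗[A] N) :=
  TensorProduct.lift ((TensorProduct.mapBilinear (RingHom.id A) P N P N).compl₁₂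
    (Algebra.lsmul A A P).toLinearMap (Algebra.lsmul A A N).toLinearMap)

variable {A B}
variable {P Q N : Type*} [AddCommGroup P] [Module A P] [Module B P] [IsScalarTower A B P]
  [AddCommGroup Q] [Module A Q] [Module B Q] [IsScalarTower A B Q]
  [AddCommGroup N] [Module A N] [Module B N] [IsScalarTower A B N]

@[simp] lemma act_tmul (b c : B) (p : P) (n : N) :
    act A B P N (b ⊗ₜ c) (p ⊗ₜ n) = (b • p) ⊗ₜ[A] (c • n) := by
  simp [act]

lemma act_mul (y k : B ⊗[A] B) (z : P ⊗[A] N) :
    act A B P N (y * k) z = act A B P N y (act A B P N k z) := by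
  induction y using TensorProduct.induction_on with
  | zero => simp
  | add a b ha hb => simp [add_mul, ha, hb]
  | tmul b c =>
    induction k using TensorProduct.induction_on with
    | zero => simp
    | add a b ha hb => simp only [mul_add, map_add, LinearMap.add_apply, ha, hb]
    | tmul b' c' =>
      induction z using TensorProduct.induction_on with
      | zero => simp
      | add a b ha hb => simp only [map_add, ha, hb]
      | tmul p n => simp [mul_smul]

lemma act_natural (g : P →ₗ[B] Q) (y : B ⊗[A] B) (z : P ⊗[A] N) :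
    (g.restrictScalars A).rTensor N (act A B P N y z) =
      act A B Q N y ((g.restrictScalars A).rTensor N z) := by
  induction y using TensorProduct.induction_on with
  | zero => simp
  | add a b ha hb => simp [ha, hb]
  | tmul b c =>
    induction z using TensorProduct.induction_on with
    | zero => simp
    | add a b ha hb => simp [ha, hb]
    | tmul p n => simp

lemma proj_act (y : B ⊗[A] B) (z : P ⊗[A] N) :
    TensorProduct.mapOfCompatibleSMul B A A P N (act A B P N y z) =
      Algebra.TensorProduct.lmul' A y • TensorProduct.mapOfCompatibleSMul B A A P N z := by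
  induction y using TensorProduct.induction_on with
  | zero => simp
  | add a b ha hb => simp [add_smul, ha, hb]
  | tmul b c =>
    induction z using TensorProduct.induction_on with
    | zero => simp
    | add a b ha hb => simp only [map_add, smul_add, ha, hb]
    | tmul p n => simp [TensorProduct.smul_tmul', mul_smul, smul_comm b c p]

/-- If `B ⊗[A] B → B` is flat, a `B`-module flat over `A` is flat over `B`. -/
theorem flat_of_flat_mul {A : Type u} {B : Type v} [CommRing A] [CommRing B] [Algebra A B]
    (h : (Algebra.TensorProduct.lmul' A (S := B)).Flat) (N : Type w) [AddCommGroup N] [Module B N]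
    [Module A N] [IsScalarTower A B N] [Module.Flat A N] : Module.Flat B N := by
  have hK : (RingHom.ker (Algebra.TensorProduct.lmul' A (S := B)).toRingHom).Pure :=
    pure_ker_of_flat_surjective _ h fun b => ⟨b ⊗ₜ 1, by simp⟩
  rw [Module.Flat.iff_rTensor_injective']
  intro I
  rw [injective_iff_map_eq_zero]
  intro x hx
  obtain ⟨z, rfl⟩ := TensorProduct.mapOfCompatibleSMul_surjective B A A I N x
  obtain ⟨s, hs⟩ := TensorProduct.exists_finset z
  let f : I ⊗[A] N →ₗ[A] B ⊗[A] N := ((I.subtype).restrictScalars A).rTensor N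
  have hsum : ∑ p ∈ s, (p.1 : B) • p.2 = 0 := by
    have := congrArg (TensorProduct.lid B N) hx
    rw [hs] at this
    simpa using this
  let k : I × N → B ⊗[A] B := fun p => (p.1 : B) ⊗ₜ 1 - 1 ⊗ₜ (p.1 : B)
  obtain ⟨y, hy, hys⟩ := exists_forall_eq_mul_of_pure
    (RingHom.ker (Algebra.TensorProduct.lmul' A (S := B)).toRingHom) s k
    (fun p _ => by simp [k, RingHom.mem_ker])
  have hfz : f z = ∑ p ∈ s, act A B B N (k p) (1 ⊗ₜ p.2) := by
    rw [hs, map_sum]
    have h1 : ∀ p : I × N, act A B B N (k p) (1 ⊗ₜ p.2) = f (p.1 ⊗ₜ p.2) - 1 ⊗ₜ ((p.1 : B) • p.2) :=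
      fun p => by simp [k, f]
    simp [h1, Finset.sum_sub_distrib, ← TensorProduct.tmul_sum, hsum]
  have hinj : Function.Injective f :=
    Module.Flat.rTensor_preserves_injective_linearMap _ (Submodule.injective_subtype I)
  have hyz : act A B I N y z = z := by
    refine hinj ?_
    simp only [f]
    rw [act_natural]
    rw [show ((I.subtype).restrictScalars A).rTensor N z = f z from rfl, hfz, map_sum]
    refine Finset.sum_congr rfl fun p hp => ?_
    rw [← act_mul, hys p hp]
  rw [← hyz, proj_act, show Algebra.TensorProduct.lmul' A y = 0 from hy, zero_smul]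

/-- Every module over a von Neumann regular ring is flat. -/
theorem flat_of_forall_dvd {R : Type u} [CommRing R] (h : ∀ a : R, ∃ x, a = a * a * x)
    (M : Type v) [AddCommGroup M] [Module R M] : Module.Flat R M := by
  rw [Module.Flat.iff_rTensor_injective]
  intro I hI
  have hidem : IsIdempotentElem I := le_antisymm Ideal.mul_le_left fun a ha => by
    obtain ⟨x, hx⟩ := h a
    rw [hx, mul_assoc]
    exact Ideal.mul_mem_mul ha (I.mul_mem_right x ha)
  obtain ⟨e, he, rfl⟩ := (Ideal.isIdempotentElem_iff_of_fg I hI).mp hidem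
  let r : R →ₗ[R] ↥(Ideal.span {e} : Ideal R) :=
    LinearMap.toSpanSingleton R _ ⟨e, Ideal.subset_span rfl⟩
  have hr : r ∘ₗ Submodule.subtype (Ideal.span {e}) = LinearMap.id := by
    ext ⟨x, hx⟩
    obtain ⟨c, rfl⟩ := Ideal.mem_span_singleton'.mp hx
    simp [r, mul_assoc, he.eq]
  refine Function.LeftInverse.injective (g := r.rTensor M) fun x => ?_
  rw [← LinearMap.comp_apply, ← LinearMap.rTensor_comp, hr, LinearMap.rTensor_id, LinearMap.id_apply]

theorem forall_dvd_of_flat {R : Type u} [CommRing R]
    (h : ∀ (M : Type u) [AddCommGroup M] [Module R M], Module.Flat R M) (a : R) :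
    ∃ x, a = a * a * x := by
  have : (Ideal.span {a} : Ideal R).Pure := h _
  obtain ⟨y, hy, hay⟩ := Ideal.exists_eq_mul_of_pure (Ideal.mem_span_singleton_self a (α := R))
  obtain ⟨x, rfl⟩ := Ideal.mem_span_singleton'.mp hy
  exact ⟨x, by linear_combination hay⟩

theorem forall_dvd_of_isField {R : Type u} [CommRing R]
    (h : ∀ (p : Ideal R) [p.IsPrime], IsField (Localization.AtPrime p)) (a : R) :
    ∃ x, a = a * a * x := by
  suffices hmem : a ∈ Ideal.span {a * a} by
    obtain ⟨x, hx⟩ := Ideal.mem_span_singleton'.mp hmem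
    exact ⟨x, by linear_combination -hx⟩
  refine Ideal.mem_of_localization_maximal fun P hP => ?_
  rw [Ideal.map_span, Set.image_singleton, Ideal.mem_span_singleton', map_mul]
  let := (h P).toField
  by_cases ha : algebraMap R (Localization.AtPrime P) a = 0
  · exact ⟨0, by simp [ha]⟩
  · exact ⟨(algebraMap R (Localization.AtPrime P) a)⁻¹, by field_simp⟩

end Groth.Agent.AbsFlat
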